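import Groth.Agent.ModEffLib.Main

/-!
# The cocycle identity on elements, and effective descent
-/

set_option autoImplicit false
set_option linter.style.haveILetI false
set_option maxHeartbeats 1000000

universe u

open CategoryTheory TensorProduct
open Groth.Agent.WittDescLib (et et_add et_smul smul_et et_induction map_et hom_ext_et et_eq_smul inv_et et_zero)

noncomputable section

namespace ModEffLib

variable {A B : Type u} [CommRing A] [CommRing B] [Algebra A B]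

/-- The first map to the tensor cube. -/
abbrev p₁ : B →+* B ⊗[A] (B ⊗[A] B) := Algebra.TensorProduct.includeLeftRingHom

/-- The square into the cube at places 2, 3. -/
abbrev g₂₃ : B ⊗[A] B →+* B ⊗[A] (B ⊗[A] B) :=
  (Algebra.TensorProduct.includeRight : B ⊗[A] B →ₐ[A] B ⊗[A] (B ⊗[A] B)).toRingHom

/-- The square into the cube at places 1, 2. -/
abbrev g₁₂ : B ⊗[A] B →+* B ⊗[A] (B ⊗[A] B) :=
  (Algebra.TensorProduct.map (AlgHom.id A B) (Algebra.TensorProduct.includeLeft : B →ₐ[A] B ⊗[A] B)).toRingHom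

/-- The square into the cube at places 1, 3. -/
abbrev g₁₃ : B ⊗[A] B →+* B ⊗[A] (B ⊗[A] B) :=
  (Algebra.TensorProduct.map (AlgHom.id A B) (Algebra.TensorProduct.includeRight : B →ₐ[A] B ⊗[A] B)).toRingHom

/-- The second map to the tensor cube. -/
abbrev p₂ : B →+* B ⊗[A] (B ⊗[A] B) := g₂₃.comp i₁

/-- The third map to the tensor cube. -/
abbrev p₃ : B →+* B ⊗[A] (B ⊗[A] B) := g₂₃.comp i₂

theorem g₁₂_i₁ : (g₁₂ (A := A) (B := B)).comp i₁ = p₁ :=
  RingHom.ext fun x => by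
    show x ⊗ₜ[A] ((1 : B) ⊗ₜ[A] (1 : B)) = x ⊗ₜ[A] (1 : B ⊗[A] B)
    rfl

theorem g₁₂_i₂ : (g₁₂ (A := A) (B := B)).comp i₂ = p₂ :=
  RingHom.ext fun x => by
    show (1 : B) ⊗ₜ[A] (x ⊗ₜ[A] (1 : B)) = (1 : B) ⊗ₜ[A] (x ⊗ₜ[A] (1 : B))
    rfl

theorem g₁₃_i₁ : (g₁₃ (A := A) (B := B)).comp i₁ = p₁ :=
  RingHom.ext fun x => by
    show x ⊗ₜ[A] ((1 : B) ⊗ₜ[A] (1 : B)) = x ⊗ₜ[A] (1 : B ⊗[A] B)
    rfl

theorem g₁₃_i₂ : (g₁₃ (A := A) (B := B)).comp i₂ = p₃ :=
  RingHom.ext fun x => by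
    show (1 : B) ⊗ₜ[A] ((1 : B) ⊗ₜ[A] x) = (1 : B) ⊗ₜ[A] ((1 : B) ⊗ₜ[A] x)
    rfl

variable (P : ModuleCat.{u} B) [Module A P] [IsScalarTower A B P]

/-- `(x ⊗ y ⊗ z) ⊗ n ↦ x ⊗ y ⊗ z n`. -/
def psi : (ModuleCat.extendScalars (p₃ (A := A) (B := B))).obj P →+ B ⊗[A] (B ⊗[A] (P : Type u)) :=
  liftEt _ _ (AddMonoidHom.mk' (fun (t : B ⊗[A] (B ⊗[A] B)) => AddMonoidHom.mk'
      (fun n : P => LinearMap.lTensor B (LinearMap.lTensor B ((LinearMap.toSpanSingleton B P n).restrictScalars A)) t)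
      (fun n n' => by
        induction t with
        | zero => simp
        | tmul x w =>
          simp only [LinearMap.lTensor_tmul, ← TensorProduct.tmul_add]
          congr 1
          induction w with
          | zero => simp
          | tmul y z => simp [TensorProduct.tmul_add]
          | add a b ha hb => simp only [map_add, ha, hb]; abel
        | add a b ha hb => simp only [map_add, ha, hb]; abel))
      (fun t t' => AddMonoidHom.ext fun n => by
        exact map_add (LinearMap.lTensor B (LinearMap.lTensor B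
          ((LinearMap.toSpanSingleton B P n).restrictScalars A))) t t'))
    fun c t n => by
      induction t using TensorProduct.induction_on with
      | zero => simp
      | tmul x w =>
        induction w using TensorProduct.induction_on with
        | zero => simp
        | tmul y z =>
          show LinearMap.lTensor _ _ (((1 : B) ⊗ₜ[A] ((1 : B) ⊗ₜ[A] c)) * (x ⊗ₜ[A] (y ⊗ₜ[A] z))) = _
          simp [Algebra.TensorProduct.tmul_mul_tmul, mul_smul, smul_comm c z]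
        | add a b ha hb => simp only [TensorProduct.tmul_add, mul_add, map_add, AddMonoidHom.add_apply, ha, hb]
      | add a b ha hb => simp only [mul_add, map_add, AddMonoidHom.add_apply, ha, hb]

theorem psi_et (x y z : B) (n : P) :
    psi P (et (p₃ (A := A) (B := B)) P (x ⊗ₜ[A] (y ⊗ₜ[A] z)) n) = x ⊗ₜ[A] (y ⊗ₜ[A] (z • n)) := rfl

omit [Module A P] [IsScalarTower A B P] in
/-- Additive maps out of a base change along the tensor square agree if they agree on elementary tensors. -/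
theorem addHom_ext {φ : B →+* B ⊗[A] B} {G : Type u} [AddCommGroup G]
    (F F' : (ModuleCat.extendScalars φ).obj P →+ G)
    (h : ∀ (x y : B) (n : P), F (et φ P (x ⊗ₜ[A] y) n) = F' (et φ P (x ⊗ₜ[A] y) n))
    (z : (ModuleCat.extendScalars φ).obj P) : F z = F' z := by
  refine et_induction φ (P := fun z => F z = F' z) (F.map_zero.trans F'.map_zero.symm) (fun s n => ?_)
    (fun a b ha hb => by rw [F.map_add, F'.map_add, ha, hb]) z
  show (F.comp (((etHom φ P).flip) n)) s = (F'.comp (((etHom φ P).flip) n)) s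
  induction s using TensorProduct.induction_on with
  | zero => simp only [map_zero]
  | tmul x y => exact h x y n
  | add a b ha hb => simp only [map_add, ha, hb]

theorem psi_kap₂₃ (x : B) (z : (ModuleCat.extendScalars (i₂ (A := A) (B := B))).obj P) :
    psi P (kap P (g₂₃ (A := A) (B := B)) ((p₁ (A := A) (B := B)) x) (p₃ (A := A) (B := B)) rfl z) = x ⊗ₜ[A] eps P z := by
  refine addHom_ext P ((psi P).comp (kap P (g₂₃ (A := A) (B := B)) ((p₁ (A := A) (B := B)) x) (p₃ (A := A) (B := B)) rfl))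
    ((TensorProduct.mk A B (B ⊗[A] (P : Type u)) x).toAddMonoidHom.comp (eps P)) (fun a b n => ?_) z
  show psi P (et _ P ((x ⊗ₜ[A] (1 : B ⊗[A] B)) * ((1 : B) ⊗ₜ[A] (a ⊗ₜ[A] b))) n) = x ⊗ₜ[A] eps P (et _ P (a ⊗ₜ[A] b) n)
  rw [Algebra.TensorProduct.tmul_mul_tmul, one_mul, mul_one, psi_et, eps_et]

theorem psi_kap₁₃ (a : B) (z : (ModuleCat.extendScalars (i₂ (A := A) (B := B))).obj P) :
    psi P (kap P (g₁₃ (A := A) (B := B)) ((p₂ (A := A) (B := B)) a) (p₃ (A := A) (B := B)) g₁₃_i₂ z) = LinearMap.lTensor B (TensorProduct.mk A B P a) (eps P z) := by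
  refine addHom_ext P ((psi P).comp (kap P (g₁₃ (A := A) (B := B)) ((p₂ (A := A) (B := B)) a) (p₃ (A := A) (B := B)) g₁₃_i₂))
    ((LinearMap.lTensor B (TensorProduct.mk A B P a)).toAddMonoidHom.comp (eps P)) (fun x y n => ?_) z
  show psi P (et _ P (((1 : B) ⊗ₜ[A] (a ⊗ₜ[A] (1 : B))) * (x ⊗ₜ[A] ((1 : B) ⊗ₜ[A] y))) n) =
    LinearMap.lTensor B (TensorProduct.mk A B P a) (eps P (et _ P (x ⊗ₜ[A] y) n))
  rw [Algebra.TensorProduct.tmul_mul_tmul, one_mul, Algebra.TensorProduct.tmul_mul_tmul, one_mul, mul_one,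
    psi_et, eps_et, LinearMap.lTensor_tmul, TensorProduct.mk_apply]

variable (d : (ModuleCat.extendScalars (i₁ (A := A) (B := B))).obj P ⟶
    (ModuleCat.extendScalars (i₂ (A := A) (B := B))).obj P)
  (D₁₂ : (ModuleCat.extendScalars (p₁ (A := A) (B := B))).obj P ⟶ (ModuleCat.extendScalars (p₂ (A := A) (B := B))).obj P)
  (D₂₃ : (ModuleCat.extendScalars (p₂ (A := A) (B := B))).obj P ⟶ (ModuleCat.extendScalars (p₃ (A := A) (B := B))).obj P)
  (D₁₃ : (ModuleCat.extendScalars (p₁ (A := A) (B := B))).obj P ⟶ (ModuleCat.extendScalars (p₃ (A := A) (B := B))).obj P)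

/-- The cocycle identity on elements. -/
theorem cocycle (hcomp : D₁₂ ≫ D₂₃ = D₁₃)
    (h₁₂ : ∀ t s u, D₁₂.hom (et (p₁ (A := A) (B := B)) P (t * (g₁₂ (A := A) (B := B)) s) u) = kap P (g₁₂ (A := A) (B := B)) t (p₂ (A := A) (B := B)) g₁₂_i₂ (d.hom (et (i₁ (A := A) (B := B)) P s u)))
    (h₂₃ : ∀ t s u, D₂₃.hom (et (p₂ (A := A) (B := B)) P (t * (g₂₃ (A := A) (B := B)) s) u) = kap P (g₂₃ (A := A) (B := B)) t (p₃ (A := A) (B := B)) rfl (d.hom (et (i₁ (A := A) (B := B)) P s u)))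
    (h₁₃ : ∀ t s u, D₁₃.hom (et (p₁ (A := A) (B := B)) P (t * (g₁₃ (A := A) (B := B)) s) u) = kap P (g₁₃ (A := A) (B := B)) t (p₃ (A := A) (B := B)) g₁₃_i₂ (d.hom (et (i₁ (A := A) (B := B)) P s u)))
    (u : P) (a b : B) :
    LinearMap.lTensor B (phi P d)
        (TensorProduct.assoc A B P B (LinearMap.rTensor B (phi P d) ((u ⊗ₜ[A] a) ⊗ₜ[A] b))) =
      LinearMap.lTensor B (TensorProduct.mk A B P a) (phi P d (u ⊗ₜ[A] b)) := by
  have key : ∀ z : (ModuleCat.extendScalars (i₂ (A := A) (B := B))).obj P,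
      LinearMap.lTensor B (phi P d) (TensorProduct.assoc A B P B (eps P z ⊗ₜ[A] b)) =
        psi P (D₂₃.hom (kap P (g₁₂ (A := A) (B := B)) ((p₃ (A := A) (B := B)) b) (p₂ (A := A) (B := B)) g₁₂_i₂ z)) := fun z => by
    refine addHom_ext P
      ((LinearMap.lTensor B (phi P d) ∘ₗ (TensorProduct.assoc A B P B).toLinearMap ∘ₗ
        (TensorProduct.mk A (B ⊗[A] (P : Type u)) B).flip b).toAddMonoidHom.comp (eps P))
      ((psi P).comp (D₂₃.hom.toAddMonoidHom.comp (kap P (g₁₂ (A := A) (B := B)) ((p₃ (A := A) (B := B)) b) (p₂ (A := A) (B := B)) g₁₂_i₂))) (fun x y n => ?_) z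
    show LinearMap.lTensor B (phi P d) (TensorProduct.assoc A B P B (eps P (et _ P (x ⊗ₜ[A] y) n) ⊗ₜ[A] b)) =
      psi P (D₂₃.hom (kap P (g₁₂ (A := A) (B := B)) ((p₃ (A := A) (B := B)) b) (p₂ (A := A) (B := B)) g₁₂_i₂ (et _ P (x ⊗ₜ[A] y) n)))
    rw [kap_et, eps_et, TensorProduct.assoc_tmul, LinearMap.lTensor_tmul, phi_apply, theta_tmul, et_smul,
      ← psi_kap₂₃, ← h₂₃]
    congr 1
    congr 1
    congr 1
    show (x ⊗ₜ[A] (1 : B ⊗[A] B)) * ((1 : B) ⊗ₜ[A] ((y ⊗ₜ[A] (1 : B)) * ((1 : B) ⊗ₜ[A] b))) =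
      ((1 : B) ⊗ₜ[A] ((1 : B) ⊗ₜ[A] b)) * (x ⊗ₜ[A] (y ⊗ₜ[A] (1 : B)))
    simp [Algebra.TensorProduct.tmul_mul_tmul]
  rw [LinearMap.rTensor_tmul, phi_apply, key, phi_apply, ← psi_kap₁₃, theta_tmul, theta_tmul, ← h₁₃, ← hcomp,
    ← h₁₂, ModuleCat.hom_comp, LinearMap.comp_apply]
  congr 4
  show ((1 : B) ⊗ₜ[A] ((1 : B) ⊗ₜ[A] b)) * ((1 : B) ⊗ₜ[A] (a ⊗ₜ[A] (1 : B))) =
    ((1 : B) ⊗ₜ[A] (a ⊗ₜ[A] (1 : B))) * ((1 : B) ⊗ₜ[A] ((1 : B) ⊗ₜ[A] b))
  rw [mul_comm]

/-- The invariant elements. -/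
def inv₀ : Submodule A (P : Type u) :=
  LinearMap.eqLocus ((phi P d).comp ((TensorProduct.mk A P B).flip 1)) (TensorProduct.mk A B P 1)

theorem d_et_of_mem {u : P} (hu : u ∈ inv₀ P d) :
    d.hom (et (i₁ (A := A) (B := B)) P 1 u) = et (i₂ (A := A) (B := B)) P 1 u := by
  refine (eps_bijective P).1 ?_
  have h : phi P d (u ⊗ₜ[A] (1 : B)) = (1 : B) ⊗ₜ[A] u := hu
  rw [phi_apply, theta_tmul] at h
  refine h.trans ?_
  show _ = eps P (et _ P ((1 : B) ⊗ₜ[A] (1 : B)) u)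
  rw [eps_et, one_smul]

/-- A module with a cocycle gluing map descends. -/
theorem bijective_inv₀ [Module.FaithfullyFlat A B] (hd : Function.Bijective d.hom)
    (hcoc : ∀ (u : P) (a b : B), LinearMap.lTensor B (phi P d)
        (TensorProduct.assoc A B P B (LinearMap.rTensor B (phi P d) ((u ⊗ₜ[A] a) ⊗ₜ[A] b))) =
      LinearMap.lTensor B (TensorProduct.mk A B P a) (phi P d (u ⊗ₜ[A] b))) :
    Function.Bijective
      ((TensorProduct.lift (Algebra.lsmul A A P).toLinearMap) ∘ₗ (LinearMap.lTensor B (inv₀ P d).subtype)) :=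
  Groth.Agent.S19547.result A B P (phi P d) ((eps_bijective P).comp (hd.comp (theta_bijective P)))
    (fun x u z => phiAdd_smul_left P d x u z) (fun y u z => phiAdd_smul_right P d y u z) hcoc (inv₀ P d)
    fun _ => Iff.rfl

end ModEffLib
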