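import Groth.Agent.ModEffLib.Cocycle
import Groth.Agent.WittDescLib.DescIso

/-!
# Descent data of modules relative to a faithfully flat ring map are effective
-/

set_option autoImplicit false
set_option linter.style.haveILetI false
set_option maxHeartbeats 1000000

universe u

open CategoryTheory Opposite TensorProduct
open Groth.Agent.WittDescLib

noncomputable section

namespace ModEffLib

variable {A B : Type u} [CommRing A] [CommRing B] [Algebra A B]

variable (D : (modPF (𝟭 CommRingCat.{u})).DescentData (fun _ : PUnit.{u + 1} => (CommRingCat.ofHom (algebraMap A B)).op))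

abbrev obj₀ : ModuleCat.{u} B := dObj (𝟭 CommRingCat.{u}) (CommRingCat.ofHom (algebraMap A B)) D

theorem cond₀ : (CommRingCat.ofHom (algebraMap A B)) ≫ CommRingCat.ofHom (i₁ (A := A) (B := B)) = (CommRingCat.ofHom (algebraMap A B)) ≫ CommRingCat.ofHom (i₂ (A := A) (B := B)) := by
  refine CommRingCat.hom_ext (RingHom.ext fun r => ?_)
  show algebraMap A B r ⊗ₜ[A] (1 : B) = (1 : B) ⊗ₜ[A] algebraMap A B r
  rw [Algebra.algebraMap_eq_smul_one, TensorProduct.smul_tmul]

/-- The gluing map on the tensor square. -/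
def d₀ : (ModuleCat.extendScalars (i₁ (A := A) (B := B))).obj (obj₀ D) ⟶
    (ModuleCat.extendScalars (i₂ (A := A) (B := B))).obj (obj₀ D) :=
  dhom (𝟭 CommRingCat.{u}) (CommRingCat.ofHom (algebraMap A B)) D (CommRingCat.ofHom (i₁ (A := A) (B := B))) (CommRingCat.ofHom (i₂ (A := A) (B := B))) cond₀

theorem d₀_bijective : Function.Bijective (d₀ D).hom := by
  let a := CommRingCat.ofHom (i₁ (A := A) (B := B))
  let b := CommRingCat.ofHom (i₂ (A := A) (B := B))
  let δ : (ModuleCat.extendScalars (i₂ (A := A) (B := B))).obj (obj₀ D) ⟶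
      (ModuleCat.extendScalars (i₁ (A := A) (B := B))).obj (obj₀ D) := dhom (𝟭 CommRingCat.{u}) (CommRingCat.ofHom (algebraMap A B)) D b a cond₀.symm
  have h1 : d₀ D ≫ δ = 𝟙 _ :=
    (dhom_comp (𝟭 CommRingCat.{u}) (CommRingCat.ofHom (algebraMap A B)) D a b a cond₀ cond₀.symm).trans (dhom_self (𝟭 CommRingCat.{u}) (CommRingCat.ofHom (algebraMap A B)) D a)
  have h2 : δ ≫ d₀ D = 𝟙 _ :=
    (dhom_comp (𝟭 CommRingCat.{u}) (CommRingCat.ofHom (algebraMap A B)) D b a b cond₀.symm cond₀).trans (dhom_self (𝟭 CommRingCat.{u}) (CommRingCat.ofHom (algebraMap A B)) D b)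
  haveI : IsIso (d₀ D) := ⟨δ, h1, h2⟩
  exact ConcreteCategory.bijective_of_isIso (d₀ D)

variable [Module A (obj₀ D)] [IsScalarTower A B (obj₀ D)]

theorem dhom_et {T : Type u} [CommRing T] (g : B ⊗[A] B →+* T) (p q : B →+* T) (hp : g.comp i₁ = p)
    (hq : g.comp i₂ = q) (h : (CommRingCat.ofHom (algebraMap A B)) ≫ CommRingCat.ofHom p = (CommRingCat.ofHom (algebraMap A B)) ≫ CommRingCat.ofHom q)
    (t : T) (s : B ⊗[A] B) (u : obj₀ D) :
    ModuleCat.Hom.hom (dhom (𝟭 CommRingCat.{u}) (CommRingCat.ofHom (algebraMap A B)) D (CommRingCat.ofHom p) (CommRingCat.ofHom q) h :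
        (ModuleCat.extendScalars p).obj (obj₀ D) ⟶ (ModuleCat.extendScalars q).obj (obj₀ D))
      (et p (obj₀ D) (t * g s) u) =
      kap (obj₀ D) g t q hq ((d₀ D).hom (et (i₁ (A := A) (B := B)) (obj₀ D) s u)) := by
  have ha : CommRingCat.ofHom (i₁ (A := A) (B := B)) ≫ CommRingCat.ofHom g = CommRingCat.ofHom p :=
    CommRingCat.hom_ext hp
  have hb : CommRingCat.ofHom (i₂ (A := A) (B := B)) ≫ CommRingCat.ofHom g = CommRingCat.ofHom q :=
    CommRingCat.hom_ext hq
  exact natural_et (obj₀ D) (d₀ D) g p q hp hq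
    (Groth.Agent.WittDescLib.cmp (𝟭 CommRingCat.{u}) (CommRingCat.ofHom (i₁ (A := A) (B := B))) (CommRingCat.ofHom g) (CommRingCat.ofHom p) ha (obj₀ (A := A) (B := B) D))
    (cmp_et (𝟭 CommRingCat.{u}) (CommRingCat.ofHom (i₁ (A := A) (B := B))) (CommRingCat.ofHom g) (CommRingCat.ofHom p) ha (obj₀ (A := A) (B := B) D))
    (Groth.Agent.WittDescLib.cmp (𝟭 CommRingCat.{u}) (CommRingCat.ofHom (i₂ (A := A) (B := B))) (CommRingCat.ofHom g) (CommRingCat.ofHom q) hb (obj₀ (A := A) (B := B) D))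
    (cmp_et (𝟭 CommRingCat.{u}) (CommRingCat.ofHom (i₂ (A := A) (B := B))) (CommRingCat.ofHom g) (CommRingCat.ofHom q) hb (obj₀ (A := A) (B := B) D))
    _ (dhom_natural (𝟭 CommRingCat.{u}) (CommRingCat.ofHom (algebraMap A B)) D (CommRingCat.ofHom g) (CommRingCat.ofHom (i₁ (A := A) (B := B))) (CommRingCat.ofHom (i₂ (A := A) (B := B)))
      (CommRingCat.ofHom p) (CommRingCat.ofHom q) ha hb cond₀ h) t s u

theorem cond_of_comp {T : Type u} [CommRing T] {g : B ⊗[A] B →+* T} {p q : B →+* T}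
    (hp : g.comp i₁ = p) (hq : g.comp i₂ = q) :
    (CommRingCat.ofHom (algebraMap A B)) ≫ CommRingCat.ofHom p = (CommRingCat.ofHom (algebraMap A B)) ≫ CommRingCat.ofHom q := by
  subst hp hq
  exact congrArg (· ≫ CommRingCat.ofHom g) (cond₀ (A := A) (B := B))

theorem cocycle₀ (u : obj₀ D) (a b : B) :
    LinearMap.lTensor B (phi (obj₀ D) (d₀ D))
        (TensorProduct.assoc A B (obj₀ D) B (LinearMap.rTensor B (phi (obj₀ D) (d₀ D)) ((u ⊗ₜ[A] a) ⊗ₜ[A] b))) =
      LinearMap.lTensor B (TensorProduct.mk A B (obj₀ D) a) (phi (obj₀ D) (d₀ D) (u ⊗ₜ[A] b)) := by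
  have h12 := cond_of_comp (g₁₂_i₁ (A := A) (B := B)) g₁₂_i₂
  have h23 := cond_of_comp (g := g₂₃ (A := A) (B := B)) (p := p₂ (A := A) (B := B)) (q := p₃ (A := A) (B := B)) rfl rfl
  have h13 := cond_of_comp (g₁₃_i₁ (A := A) (B := B)) g₁₃_i₂
  let D12 : (ModuleCat.extendScalars (p₁ (A := A) (B := B))).obj (obj₀ D) ⟶ (ModuleCat.extendScalars (p₂ (A := A) (B := B))).obj (obj₀ D) :=
    dhom (𝟭 CommRingCat.{u}) (CommRingCat.ofHom (algebraMap A B)) D (CommRingCat.ofHom (p₁ (A := A) (B := B))) (CommRingCat.ofHom (p₂ (A := A) (B := B))) h12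
  let D23 : (ModuleCat.extendScalars (p₂ (A := A) (B := B))).obj (obj₀ D) ⟶ (ModuleCat.extendScalars (p₃ (A := A) (B := B))).obj (obj₀ D) :=
    dhom (𝟭 CommRingCat.{u}) (CommRingCat.ofHom (algebraMap A B)) D (CommRingCat.ofHom (p₂ (A := A) (B := B))) (CommRingCat.ofHom (p₃ (A := A) (B := B))) h23
  let D13 : (ModuleCat.extendScalars (p₁ (A := A) (B := B))).obj (obj₀ D) ⟶ (ModuleCat.extendScalars (p₃ (A := A) (B := B))).obj (obj₀ D) :=
    dhom (𝟭 CommRingCat.{u}) (CommRingCat.ofHom (algebraMap A B)) D (CommRingCat.ofHom (p₁ (A := A) (B := B))) (CommRingCat.ofHom (p₃ (A := A) (B := B))) h13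
  have hc : D12 ≫ D23 = D13 :=
    dhom_comp (𝟭 CommRingCat.{u}) (CommRingCat.ofHom (algebraMap A B)) D (CommRingCat.ofHom (p₁ (A := A) (B := B))) (CommRingCat.ofHom (p₂ (A := A) (B := B))) (CommRingCat.ofHom (p₃ (A := A) (B := B))) h12 h23
  exact cocycle (obj₀ D) (d₀ D) D12 D23 D13 hc
    (fun t s u => dhom_et D g₁₂ (p₁ (A := A) (B := B)) (p₂ (A := A) (B := B)) g₁₂_i₁ g₁₂_i₂ h12 t s u)
    (fun t s u => dhom_et D g₂₃ (p₂ (A := A) (B := B)) (p₃ (A := A) (B := B)) rfl rfl h23 t s u)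
    (fun t s u => dhom_et D g₁₃ (p₁ (A := A) (B := B)) (p₃ (A := A) (B := B)) g₁₃_i₁ g₁₃_i₂ h13 t s u) u a b

theorem invariant {T : CommRingCat.{u}} (a b : CommRingCat.of B ⟶ T) (h : (CommRingCat.ofHom (algebraMap A B)) ≫ a = (CommRingCat.ofHom (algebraMap A B)) ≫ b) {v : obj₀ D}
    (hv : v ∈ inv₀ (obj₀ D) (d₀ D)) :
    ModuleCat.Hom.hom (dhom (𝟭 CommRingCat.{u}) (CommRingCat.ofHom (algebraMap A B)) D a b h :
        (ModuleCat.extendScalars a.hom).obj (obj₀ D) ⟶ (ModuleCat.extendScalars b.hom).obj (obj₀ D))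
      (et a.hom (obj₀ D) 1 v) = et b.hom (obj₀ D) 1 v := by
  letI : Algebra A T := ((CommRingCat.ofHom (algebraMap A B)) ≫ a).hom.toAlgebra
  let a' : B →ₐ[A] T := { a.hom with commutes' := fun r => rfl }
  let b' : B →ₐ[A] T := { b.hom with commutes' := fun r => (RingHom.congr_fun (congrArg CommRingCat.Hom.hom h) r).symm }
  let g : B ⊗[A] B →+* T := (Algebra.TensorProduct.lift a' b' fun _ _ => Commute.all _ _).toRingHom
  have hp : g.comp i₁ = a.hom := RingHom.ext fun x => by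
    show Algebra.TensorProduct.lift a' b' (fun _ _ => Commute.all _ _) (x ⊗ₜ[A] (1 : B)) = _
    rw [Algebra.TensorProduct.lift_tmul, map_one, mul_one]
    rfl
  have hq : g.comp i₂ = b.hom := RingHom.ext fun x => by
    show Algebra.TensorProduct.lift a' b' (fun _ _ => Commute.all _ _) ((1 : B) ⊗ₜ[A] x) = _
    rw [Algebra.TensorProduct.lift_tmul, map_one, one_mul]
    rfl
  have key := dhom_et D g a.hom b.hom hp hq h 1 1 v
  rw [map_one, mul_one, d_et_of_mem (obj₀ D) (d₀ D) hv, kap_et, map_one, mul_one] at key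
  exact key

/-- Descent data relative to a faithfully flat ring map are effective. -/
theorem exists_datum_iso' [Module.FaithfullyFlat A B] :
    ∃ M : ModuleCat.{u} A, Nonempty (((modPF (𝟭 CommRingCat.{u})).toDescentData
      (fun _ : PUnit.{u + 1} => (CommRingCat.ofHom (algebraMap A B)).op)).obj M ≅ D) := by
  let N := inv₀ (obj₀ D) (d₀ D)
  let M : ModuleCat.{u} A := ModuleCat.of A N
  let p : B →+ N →+ obj₀ D := AddMonoidHom.mk' (fun b => AddMonoidHom.mk' (fun v => b • (v : obj₀ D))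
    fun v v' => smul_add b (v : obj₀ D) v') fun b b' => AddMonoidHom.ext fun v => add_smul b b' (v : obj₀ D)
  let θ : (ModuleCat.extendScalars (algebraMap A B)).obj M →+ obj₀ D :=
    liftEt (algebraMap A B) M p fun r b v => by
      show (algebraMap A B r * b) • (v : obj₀ D) = b • ((r • v : N) : obj₀ D)
      rw [Submodule.coe_smul, mul_smul, algebraMap_smul, smul_comm]
  let θl : (ModuleCat.extendScalars (algebraMap A B)).obj M →ₗ[B] obj₀ D :=
    { θ with
      map_smul' := fun c z => by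
        show θ (c • z) = c • θ z
        refine et_induction (algebraMap A B) (P := fun z => θ (c • z) = c • θ z) ?_ (fun b v => ?_)
          (fun x y hx hy => ?_) z
        · rw [smul_zero, map_zero, smul_zero]
        · rw [smul_et]
          exact mul_smul c b _
        · rw [smul_add, map_add, map_add, smul_add, hx, hy] }
  have hθ : Function.Bijective θl := by
    have hb := bijective_inv₀ (obj₀ D) (d₀ D) (d₀_bijective D) (cocycle₀ D)
    let e : (ModuleCat.extendScalars (algebraMap A B)).obj M →+ B ⊗[A] N :=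
      liftEt _ M (AddMonoidHom.mk' (fun b => AddMonoidHom.mk' (fun v : N => b ⊗ₜ[A] v)
        fun v v' => TensorProduct.tmul_add b v v') fun b b' => AddMonoidHom.ext fun v => TensorProduct.add_tmul b b' v)
        fun r b v => by
          show (algebraMap A B r * b) ⊗ₜ[A] v = b ⊗ₜ[A] (r • v)
          rw [← Algebra.smul_def, TensorProduct.smul_tmul]
    let e' : B ⊗[A] N →+ (ModuleCat.extendScalars (algebraMap A B)).obj M :=
      TensorProduct.liftAddHom (etHom (algebraMap A B) M) fun r b v => by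
        show et _ M (r • b) v = et _ M b (r • v)
        rw [et_smul, Algebra.smul_def]
    have hee : ∀ z, e' (e z) = z := fun z =>
      et_induction (algebraMap A B) (P := fun z => e' (e z) = z) (by rw [map_zero, map_zero])
        (fun b v => rfl) (fun x y hx hy => by rw [map_add, map_add, hx, hy]) z
    have hee' : ∀ w, e (e' w) = w := fun w => by
      induction w using TensorProduct.induction_on with
      | zero => rw [map_zero, map_zero]
      | tmul b v => rfl
      | add x y hx hy => rw [map_add, map_add, hx, hy]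
    have hcomp : ∀ z, θl z =
        ((TensorProduct.lift (Algebra.lsmul A A (obj₀ D)).toLinearMap) ∘ₗ (LinearMap.lTensor B N.subtype)) (e z) :=
      fun z => et_induction (algebraMap A B) (P := fun z => θl z =
        ((TensorProduct.lift (Algebra.lsmul A A (obj₀ D)).toLinearMap) ∘ₗ (LinearMap.lTensor B N.subtype)) (e z))
        (by rw [map_zero θl, map_zero e, map_zero]) (fun b v => rfl)
        (fun x y hx hy => by rw [map_add θl, map_add e, map_add, hx, hy]) z
    rw [show (θl : _ → _) = _ ∘ e from funext hcomp]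
    exact hb.comp ⟨fun x y h => by rw [← hee x, h, hee], fun w => ⟨e' w, hee' w⟩⟩
  let i₀ : (ModuleCat.extendScalars (algebraMap A B)).obj M ≅ obj₀ D := (LinearEquiv.ofBijective θl hθ).toModuleIso
  refine ⟨M, ⟨isoMkOfObj (modPF (𝟭 CommRingCat.{u})) (CommRingCat.ofHom (algebraMap A B)).op i₀ ?_⟩⟩
  rintro ⟨T⟩ q a b hf₁ hf₂ p₁ p₂
  obtain ⟨a, rfl⟩ : ∃ a' : CommRingCat.of B ⟶ T, a'.op = a := ⟨a.unop, rfl⟩
  obtain ⟨b, rfl⟩ : ∃ b' : CommRingCat.of B ⟶ T, b'.op = b := ⟨b.unop, rfl⟩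
  obtain ⟨q, rfl⟩ : ∃ q' : CommRingCat.of A ⟶ T, q'.op = q := ⟨q.unop, rfl⟩
  have ha : (CommRingCat.ofHom (algebraMap A B)) ≫ a = q := Quiver.Hom.op_inj hf₁
  have hb : (CommRingCat.ofHom (algebraMap A B)) ≫ b = q := Quiver.Hom.op_inj hf₂
  refine (iso_comm_left (𝟭 CommRingCat.{u}) (CommRingCat.ofHom (algebraMap A B)) D i₀ a b q ha hb hf₁ hf₂).symm.trans (Eq.trans ?_ (iso_comm_right (𝟭 CommRingCat.{u}) (CommRingCat.ofHom (algebraMap A B)) D i₀ a b q ha hb))
  exact comm_abstract i₀ (dhom (𝟭 CommRingCat.{u}) (CommRingCat.ofHom (algebraMap A B)) D a b (ha.trans hb.symm)) (Groth.Agent.WittDescLib.cmp (𝟭 CommRingCat.{u}) (CommRingCat.ofHom (algebraMap A B)) a q ha M) (Groth.Agent.WittDescLib.cmp (𝟭 CommRingCat.{u}) (CommRingCat.ofHom (algebraMap A B)) b q hb M)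
    (cmp_et (𝟭 CommRingCat.{u}) (CommRingCat.ofHom (algebraMap A B)) a q ha M) (cmp_et (𝟭 CommRingCat.{u}) (CommRingCat.ofHom (algebraMap A B)) b q hb M) fun v => by
      have h1 : i₀.hom (et (algebraMap A B) M 1 v) = (v : N).1 := one_smul B _
      rw [h1]
      exact invariant D a b (ha.trans hb.symm) v.2

end ModEffLib
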