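import Groth.Agent.WittDescLib.Cat
import Groth.Agent.S19547

/-!
# Effective descent of modules along faithfully flat ring maps: the algebra

A gluing map on `B ⊗ B` satisfying the cocycle identity is read as a map `P ⊗ B → B ⊗ P`; its invariant elements
descend `P`.
-/

set_option autoImplicit false
set_option linter.style.haveILetI false
set_option maxHeartbeats 1000000

universe u

open CategoryTheory TensorProduct
open Groth.Agent.WittDescLib (et et_add et_smul smul_et et_induction map_et hom_ext_et et_eq_smul inv_et et_zero)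

noncomputable section

namespace ModEffLib

section Lift

variable {A B : Type u} [CommRing A] [CommRing B] (φ : A →+* B) (M : ModuleCat.{u} A)
  {G : Type u} [AddCommGroup G]

/-- An additive map out of an extension of scalars. -/
def liftEt (p : B →+ M →+ G) (hp : ∀ (a : A) (b : B) (m : M), p (φ a * b) m = p b (a • m)) :
    (ModuleCat.extendScalars φ).obj M →+ G :=
  letI := φ.toAlgebra
  TensorProduct.liftAddHom p hp

theorem liftEt_et (p : B →+ M →+ G) (hp : ∀ (a : A) (b : B) (m : M), p (φ a * b) m = p b (a • m))
    (b : B) (m : M) : liftEt φ M p hp (et φ M b m) = p b m := rfl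

theorem et_add_left (b b' : B) (m : M) : et φ M (b + b') m = et φ M b m + et φ M b' m :=
  TensorProduct.add_tmul _ _ _

theorem et_zero_left (m : M) : et φ M 0 m = 0 :=
  TensorProduct.zero_tmul _ _

/-- Elementary tensors, additive in both variables. -/
def etHom : B →+ M →+ (ModuleCat.extendScalars φ).obj M :=
  AddMonoidHom.mk' (fun b => AddMonoidHom.mk' (fun m => et φ M b m) fun m m' => et_add φ M b m m')
    fun b b' => AddMonoidHom.ext fun m => et_add_left φ M b b' m

theorem etHom_apply (b : B) (m : M) : etHom φ M b m = et φ M b m := rfl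

end Lift

variable {A B : Type u} [CommRing A] [CommRing B] [Algebra A B]

/-- The first map to the tensor square. -/
abbrev i₁ : B →+* B ⊗[A] B := Algebra.TensorProduct.includeLeftRingHom

/-- The second map to the tensor square. -/
abbrev i₂ : B →+* B ⊗[A] B := (Algebra.TensorProduct.includeRight : B →ₐ[A] B ⊗[A] B).toRingHom

variable (P : ModuleCat.{u} B) [Module A P] [IsScalarTower A B P]

/-- `(x ⊗ y) ⊗ n ↦ x ⊗ y n`. -/
def eps : (ModuleCat.extendScalars (i₂ (A := A) (B := B))).obj P →+ B ⊗[A] (P : Type u) :=
  liftEt _ _ (AddMonoidHom.mk' (fun (t : B ⊗[A] B) => AddMonoidHom.mk'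
      (fun n : P => LinearMap.lTensor B ((LinearMap.toSpanSingleton B P n).restrictScalars A) t)
      (fun n n' => by
        induction t with
        | zero => simp
        | tmul x y => simp [TensorProduct.tmul_add]
        | add a b ha hb => simp only [map_add, ha, hb]; abel))
      (fun t t' => AddMonoidHom.ext fun n => by exact map_add (LinearMap.lTensor B ((LinearMap.toSpanSingleton B P n).restrictScalars A)) t t'))
    fun c t n => by
      induction t using TensorProduct.induction_on with
      | zero => simp
      | tmul x y =>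
        show LinearMap.lTensor _ _ (((1 : B) ⊗ₜ[A] c) * (x ⊗ₜ[A] y)) = _
        simp [Algebra.TensorProduct.tmul_mul_tmul, mul_smul, smul_comm c y]
      | add a b ha hb => simp only [mul_add, map_add, AddMonoidHom.add_apply, ha, hb]

theorem eps_et (x y : B) (n : P) :
    eps P (et (i₂ (A := A) (B := B)) P (x ⊗ₜ[A] y) n) = x ⊗ₜ[A] (y • n) := rfl

theorem eps_smul_left (x : B) (z : (ModuleCat.extendScalars (i₂ (A := A) (B := B))).obj P) :
    eps P ((x ⊗ₜ[A] (1 : B) : B ⊗[A] B) • z) = LinearMap.rTensor P (LinearMap.mulLeft A x) (eps P z) := by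
  induction z using et_induction with
  | h0 => erw [smul_zero, map_zero]
  | hadd a b ha hb => simp only [smul_add, map_add, ha, hb]
  | ht t n =>
    rw [smul_et]
    induction t using TensorProduct.induction_on with
    | zero => simp [et_zero_left]
    | tmul a b =>
      rw [Algebra.TensorProduct.tmul_mul_tmul, one_mul, eps_et, eps_et, LinearMap.rTensor_tmul,
        LinearMap.mulLeft_apply]
    | add a b ha hb => rw [mul_add, et_add_left, et_add_left, map_add, map_add, ha, hb, map_add]

theorem eps_smul_right (y : B) (z : (ModuleCat.extendScalars (i₂ (A := A) (B := B))).obj P) :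
    eps P (((1 : B) ⊗ₜ[A] y : B ⊗[A] B) • z) = LinearMap.lTensor B (Algebra.lsmul A A P y) (eps P z) := by
  induction z using et_induction with
  | h0 => erw [smul_zero, map_zero]
  | hadd a b ha hb => simp only [smul_add, map_add, ha, hb]
  | ht t n =>
    rw [smul_et]
    induction t using TensorProduct.induction_on with
    | zero => simp [et_zero_left]
    | tmul a b =>
      rw [Algebra.TensorProduct.tmul_mul_tmul, one_mul, eps_et, eps_et, LinearMap.lTensor_tmul, mul_smul]
      rfl
    | add a b ha hb => rw [mul_add, et_add_left, et_add_left, map_add, map_add, ha, hb, map_add]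

theorem eps_bijective : Function.Bijective (eps (A := A) P) := by
  let q : B ⊗[A] (P : Type u) →+ (ModuleCat.extendScalars (i₂ (A := A) (B := B))).obj P :=
    TensorProduct.liftAddHom (AddMonoidHom.mk' (fun x : B => AddMonoidHom.mk'
        (fun n : P => et (i₂ (A := A) (B := B)) P (x ⊗ₜ[A] (1 : B)) n) fun n n' => et_add _ _ _ n n')
        fun x x' => AddMonoidHom.ext fun n => by
          show et _ _ _ n = et _ _ _ n + et _ _ _ n
          rw [TensorProduct.add_tmul, et_add_left])
      fun r x n => by
        show et _ _ ((r • x) ⊗ₜ[A] (1 : B)) n = et _ _ (x ⊗ₜ[A] (1 : B)) (r • n)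
        rw [← algebraMap_smul B r n, et_smul]
        congr 1
        show _ = ((1 : B) ⊗ₜ[A] algebraMap A B r) * (x ⊗ₜ[A] (1 : B))
        rw [Algebra.TensorProduct.tmul_mul_tmul, one_mul, mul_one, Algebra.algebraMap_eq_smul_one,
          TensorProduct.smul_tmul]
  have hl : ∀ z, q (eps P z) = z := fun z => by
    induction z using et_induction with
    | h0 => erw [map_zero]
    | hadd a b ha hb => simp only [map_add, ha, hb]
    | ht t n =>
      induction t using TensorProduct.induction_on with
      | zero => erw [et_zero_left, map_zero]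
      | tmul a b =>
        rw [eps_et]
        show et _ _ (a ⊗ₜ[A] (1 : B)) (b • n) = _
        rw [et_smul]
        congr 1
        show ((1 : B) ⊗ₜ[A] b) * (a ⊗ₜ[A] (1 : B)) = _
        rw [Algebra.TensorProduct.tmul_mul_tmul, one_mul, mul_one]
      | add a b ha hb => rw [et_add_left, map_add, map_add, ha, hb]
  have hr : ∀ w, eps P (q w) = w := fun w => by
    induction w using TensorProduct.induction_on with
    | zero => erw [map_zero]
    | tmul x n => exact (eps_et P x 1 n).trans (by rw [one_smul])
    | add a b ha hb => simp only [map_add, ha, hb]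
  exact ⟨fun a b h => by rw [← hl a, h, hl], fun w => ⟨q w, hr w⟩⟩

/-- `u ⊗ z ↦ (1 ⊗ z) ⊗ u`. -/
def theta : (P : Type u) ⊗[A] B →+ (ModuleCat.extendScalars (i₁ (A := A) (B := B))).obj P :=
  TensorProduct.liftAddHom (AddMonoidHom.mk' (fun u : P => AddMonoidHom.mk'
      (fun z : B => et (i₁ (A := A) (B := B)) P ((1 : B) ⊗ₜ[A] z) u) fun z z' => by
        rw [TensorProduct.tmul_add, et_add_left])
      fun u u' => AddMonoidHom.ext fun z => et_add _ _ _ u u')
    fun r u z => by
      show et _ _ ((1 : B) ⊗ₜ[A] z) (r • u) = et _ _ ((1 : B) ⊗ₜ[A] (r • z)) u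
      rw [← algebraMap_smul B r u, et_smul]
      congr 1
      show (algebraMap A B r ⊗ₜ[A] (1 : B)) * ((1 : B) ⊗ₜ[A] z) = _
      rw [Algebra.TensorProduct.tmul_mul_tmul, mul_one, one_mul, Algebra.algebraMap_eq_smul_one,
        TensorProduct.smul_tmul]

theorem theta_tmul (u : P) (z : B) : theta P (u ⊗ₜ[A] z) = et (i₁ (A := A) (B := B)) P ((1 : B) ⊗ₜ[A] z) u := rfl

theorem theta_smul_left (x : B) (u : P) (z : B) :
    theta P ((x • u) ⊗ₜ[A] z) = (x ⊗ₜ[A] (1 : B) : B ⊗[A] B) • theta P (u ⊗ₜ[A] z) := by
  rw [theta_tmul, theta_tmul, et_smul, smul_et]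
  rfl

theorem theta_smul_right (y : B) (u : P) (z : B) :
    theta P (u ⊗ₜ[A] (y * z)) = ((1 : B) ⊗ₜ[A] y : B ⊗[A] B) • theta P (u ⊗ₜ[A] z) := by
  rw [theta_tmul, theta_tmul, smul_et, Algebra.TensorProduct.tmul_mul_tmul, one_mul]

theorem theta_bijective : Function.Bijective (theta (A := A) P) := by
  let q : (ModuleCat.extendScalars (i₁ (A := A) (B := B))).obj P →+ (P : Type u) ⊗[A] B :=
    liftEt _ _ (AddMonoidHom.mk' (fun (t : B ⊗[A] B) => AddMonoidHom.mk'
      (fun n : P => LinearMap.rTensor B ((LinearMap.toSpanSingleton B P n).restrictScalars A) t)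
      (fun n n' => by
        induction t with
        | zero => simp
        | tmul x y => simp [TensorProduct.add_tmul]
        | add a b ha hb => simp only [map_add, ha, hb]; abel))
      (fun t t' => AddMonoidHom.ext fun n => by exact map_add (LinearMap.rTensor B ((LinearMap.toSpanSingleton B P n).restrictScalars A)) t t'))
    fun c t n => by
      induction t using TensorProduct.induction_on with
      | zero => simp
      | tmul x y =>
        show LinearMap.rTensor _ _ ((c ⊗ₜ[A] (1 : B)) * (x ⊗ₜ[A] y)) = _
        simp [Algebra.TensorProduct.tmul_mul_tmul, mul_smul, smul_comm c x]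
      | add a b ha hb => simp only [mul_add, map_add, AddMonoidHom.add_apply, ha, hb]
  have hl : ∀ w, q (theta P w) = w := fun w => by
    induction w using TensorProduct.induction_on with
    | zero => simp
    | tmul u z =>
      show ((1 : B) • u) ⊗ₜ[A] z = _
      rw [one_smul]
    | add a b ha hb => simp only [map_add, ha, hb]
  have hr : ∀ z, theta P (q z) = z := fun z => by
    induction z using et_induction with
    | h0 => simp
    | hadd a b ha hb => simp only [map_add, ha, hb]
    | ht t n =>
      induction t using TensorProduct.induction_on with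
      | zero => simp [et_zero_left]
      | tmul a b =>
        show theta P ((a • n) ⊗ₜ[A] b) = _
        rw [theta_tmul, et_smul]
        congr 1
        show (a ⊗ₜ[A] (1 : B)) * ((1 : B) ⊗ₜ[A] b) = _
        rw [Algebra.TensorProduct.tmul_mul_tmul, one_mul, mul_one]
      | add a b ha hb => rw [et_add_left, map_add, map_add, ha, hb]
  exact ⟨fun a b h => by rw [← hl a, h, hl], fun w => ⟨q w, hr w⟩⟩

variable (d : (ModuleCat.extendScalars (i₁ (A := A) (B := B))).obj P ⟶
  (ModuleCat.extendScalars (i₂ (A := A) (B := B))).obj P)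

/-- The gluing map as a map `P ⊗ B → B ⊗ P`. -/
def phiAdd : (P : Type u) ⊗[A] B →+ B ⊗[A] (P : Type u) :=
  ((eps P).comp d.hom.toAddMonoidHom).comp (theta P)

theorem phiAdd_apply (w : (P : Type u) ⊗[A] B) : phiAdd P d w = eps P (d.hom (theta P w)) := rfl

theorem phiAdd_smul_left (x : B) (u : P) (z : B) :
    phiAdd P d ((x • u) ⊗ₜ[A] z) = LinearMap.rTensor P (LinearMap.mulLeft A x) (phiAdd P d (u ⊗ₜ[A] z)) := by
  rw [phiAdd_apply, phiAdd_apply, theta_smul_left, map_smul, eps_smul_left]

theorem phiAdd_smul_right (y : B) (u : P) (z : B) :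
    phiAdd P d (u ⊗ₜ[A] (y * z)) = LinearMap.lTensor B (Algebra.lsmul A A P y) (phiAdd P d (u ⊗ₜ[A] z)) := by
  rw [phiAdd_apply, phiAdd_apply, theta_smul_right, map_smul, eps_smul_right]

/-- The gluing map, linear over the base. -/
def phi : (P : Type u) ⊗[A] B →ₗ[A] B ⊗[A] (P : Type u) :=
  { phiAdd P d with
    map_smul' := fun r w => by
      show phiAdd P d (r • w) = r • phiAdd P d w
      induction w using TensorProduct.induction_on with
      | zero => simp
      | tmul u z =>
        rw [TensorProduct.smul_tmul', ← algebraMap_smul B r u, phiAdd_smul_left]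
        generalize phiAdd P d (u ⊗ₜ[A] z) = v
        induction v with
        | zero => simp
        | tmul a b =>
          rw [LinearMap.rTensor_tmul, LinearMap.mulLeft_apply, ← Algebra.smul_def, TensorProduct.smul_tmul']
        | add a b ha hb => rw [map_add, smul_add, ha, hb]
      | add a b ha hb => simp only [smul_add, map_add, ha, hb] }

theorem phi_apply (w : (P : Type u) ⊗[A] B) : phi P d w = eps P (d.hom (theta P w)) := rfl

/-- `z ↦ t · g z` on elementary tensors, along a map from the tensor square. -/
def kap {T : Type u} [CommRing T] (g : B ⊗[A] B →+* T) (t : T) (q : B →+* T) (hq : g.comp i₂ = q) :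
    (ModuleCat.extendScalars (i₂ (A := A) (B := B))).obj P →+ (ModuleCat.extendScalars q).obj P :=
  liftEt _ _ (AddMonoidHom.mk' (fun s : B ⊗[A] B => (etHom q P (t * g s)))
      fun s s' => by rw [map_add, mul_add, map_add])
    fun c s n => by
      show et q P (t * g (i₂ c * s)) n = et q P (t * g s) (c • n)
      rw [et_smul, map_mul, ← hq, RingHom.comp_apply]
      congr 1
      ring

theorem kap_et {T : Type u} [CommRing T] (g : B ⊗[A] B →+* T) (t : T) (q : B →+* T) (hq : g.comp i₂ = q)
    (s : B ⊗[A] B) (n : P) : kap P g t q hq (et (i₂ (A := A) (B := B)) P s n) = et q P (t * g s) n := rfl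

omit [Module A P] [IsScalarTower A B P] in
/-- A pulled back gluing map on elementary tensors. -/
theorem natural_et {T : Type u} [CommRing T] (g : B ⊗[A] B →+* T) (p q : B →+* T)
    (hp : g.comp i₁ = p) (hq : g.comp i₂ = q)
    (e : (ModuleCat.extendScalars p).obj P ≅
      (ModuleCat.extendScalars g).obj ((ModuleCat.extendScalars (i₁ (A := A) (B := B))).obj P))
    (he : ∀ m : P, e.hom (et p P 1 m) = et g ((ModuleCat.extendScalars (i₁ (A := A) (B := B))).obj P) 1
      (et (i₁ (A := A) (B := B)) P 1 m))
    (e' : (ModuleCat.extendScalars q).obj P ≅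
      (ModuleCat.extendScalars g).obj ((ModuleCat.extendScalars (i₂ (A := A) (B := B))).obj P))
    (he' : ∀ m : P, e'.hom (et q P 1 m) = et g ((ModuleCat.extendScalars (i₂ (A := A) (B := B))).obj P) 1
      (et (i₂ (A := A) (B := B)) P 1 m))
    (D' : (ModuleCat.extendScalars p).obj P ⟶ (ModuleCat.extendScalars q).obj P)
    (hD : D' = e.hom ≫ (ModuleCat.extendScalars g).map d ≫ e'.inv) (t : T) (s : B ⊗[A] B) (u : P) :
    D'.hom (et p P (t * g s) u) = kap P g t q hq (d.hom (et (i₁ (A := A) (B := B)) P s u)) := by
  have h1 : e.hom (et p P (t * g s) u) =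
      et g ((ModuleCat.extendScalars (i₁ (A := A) (B := B))).obj P) t (et (i₁ (A := A) (B := B)) P s u) := by
    rw [et_eq_smul p, map_smul, he, et_eq_smul (i₁ (A := A) (B := B)) P s, et_smul, smul_et, mul_one, mul_comm t]
  rw [hD, ModuleCat.comp_apply, ModuleCat.comp_apply, h1, map_et]
  generalize (d (et (i₁ (A := A) (B := B)) P s u)) = z
  induction z using et_induction with
  | h0 => erw [et_zero, map_zero, map_zero]
  | hadd x y hx hy => simp only [et_add, map_add, hx, hy]
  | ht w n => exact inv_et _ P g q e' he' t w n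

end ModEffLib
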